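import Cfsg.Agent.H58.LocalClosed
import Cfsg.Agent.H3.Unitary

/-!
In defining characteristic `SU₃` is locally closed: a non-trivial `p`-element fixes exactly one
isotropic point.
-/

set_option autoImplicit false

namespace Cfsg.Agent.H58.PSUThreeLocal

open Matrix Cfsg

variable {F : Type*} [Field F] [Fintype F] {q : ℕ}

local notation "h" => hermForm 3 F q
local notation "V" => Fin 3 → F

theorem scalar_aux (hF : Fintype.card F = q ^ 2) {x1 x2 y0 y1 y2 : F}
    (h1 : x1 * y1 ^ q + x2 * y2 ^ q = 0) (h2 : x1 * x1 ^ q + x2 * x2 ^ q = 0)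
    (h3 : y0 * y0 ^ q + y1 * y1 ^ q + y2 * y2 ^ q = 0) (h0 : y0 ≠ 0) : x1 = 0 ∧ x2 = 0 := by
  have hq : q ≠ 0 := by have := H3.two_le_q hF; omega
  have h1q : x1 ^ q * y1 + x2 ^ q * y2 = 0 := by
    have := congrArg (fun t : F => t ^ q) h1
    simpa only [H3.add_pow_q hF, mul_pow, H3.pow_q_pow_q hF, zero_pow hq] using this
  by_cases hx : x2 = 0
  · rw [hx, zero_mul, add_zero, mul_eq_zero, pow_eq_zero_iff hq, or_self] at h2
    exact ⟨h2, hx⟩
  · exfalso
    have hN : x2 * x2 ^ q ≠ 0 := mul_ne_zero hx (pow_ne_zero q hx)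
    have e : (x2 * x2 ^ q) * (y1 * y1 ^ q + y2 * y2 ^ q) = 0 := by
      linear_combination (-(x1 ^ q * y1)) * h1 + (x2 * y2 ^ q) * h1q + (y1 * y1 ^ q) * h2
    have e' := (mul_eq_zero.1 e).resolve_left hN
    exact mul_ne_zero h0 (pow_ne_zero q h0) (by linear_combination h3 - e')

/-- Orthogonal isotropic vectors are proportional. -/
theorem proportional (hF : Fintype.card F = q ^ 2) {a b : V} (ha0 : a ≠ 0) (ha : h a a = 0)
    (hb : h b b = 0) (hab : h b a = 0) : ∃ c : F, b = c • a := by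
  obtain ⟨i, hi⟩ := Function.ne_iff.1 ha0
  refine ⟨b i / a i, ?_⟩
  set x := b - (b i / a i) • a with hx
  have hxi : x i = 0 := by
    simp only [hx, Pi.sub_apply, Pi.smul_apply, smul_eq_mul]
    rw [div_mul_cancel₀ _ hi, sub_self]
  have h1 : h x a = 0 := by
    rw [hx, H3.hermForm_sub_left hF, H3.hermForm_smul_left hF, hab, ha]; simp
  have h2 : h x x = 0 := by
    rw [hx, H3.hermForm_sub_left hF, H3.hermForm_sub_right hF, H3.hermForm_sub_right hF,
      H3.hermForm_smul_left hF, H3.hermForm_smul_left hF, H3.hermForm_smul_right hF,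
      H3.hermForm_smul_right hF, hb, hab, ha, (H3.hermForm_eq_zero_comm hF).1 hab]
    simp
  suffices x = 0 by rwa [hx, sub_eq_zero] at this
  simp only [hermForm, Fin.sum_univ_three] at h1 h2 ha
  obtain rfl | rfl | rfl : i = 0 ∨ i = 1 ∨ i = 2 := by fin_cases i <;> simp
  · obtain ⟨e1, e2⟩ := scalar_aux hF (x1 := x 1) (x2 := x 2) (y1 := a 1) (y2 := a 2)
      (by simpa [hxi] using h1) (by simpa [hxi] using h2) ha hi
    funext j; fin_cases j <;> assumption
  · obtain ⟨e1, e2⟩ := scalar_aux hF (x1 := x 0) (x2 := x 2) (y1 := a 0) (y2 := a 2)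
      (by simpa [hxi] using h1) (by simpa [hxi] using h2) (y0 := a 1)
      (by linear_combination ha) hi
    funext j; fin_cases j <;> assumption
  · obtain ⟨e1, e2⟩ := scalar_aux hF (x1 := x 0) (x2 := x 1) (y1 := a 0) (y2 := a 1)
      (by simpa [hxi] using h1) (by simpa [hxi] using h2) (y0 := a 2)
      (by linear_combination ha) hi
    funext j; fin_cases j <;> assumption

variable (F q) in
/-- The matrix of an element of `SU₃`. -/
abbrev mat (g : Cfsg.SU 3 F q) : Matrix (Fin 3) (Fin 3) F := g.1.1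

theorem mat_mul (g k : Cfsg.SU 3 F q) : mat F q (g * k) = mat F q g * mat F q k := by
  simp [mat]

theorem mat_pow (g : Cfsg.SU 3 F q) (n : ℕ) : mat F q (g ^ n) = mat F q g ^ n := by
  simp [mat]

theorem mat_one : mat F q 1 = 1 := by simp [mat]

theorem mat_eq_one {g : Cfsg.SU 3 F q} : mat F q g = 1 ↔ g = 1 :=
  ⟨fun e => Subtype.ext (Subtype.ext (by simpa [mat] using e)), fun e => by rw [e, mat_one]⟩

theorem preserves (g : Cfsg.SU 3 F q) (u v : V) : h (mat F q g *ᵥ u) (mat F q g *ᵥ v) = h u v :=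
  g.2 u v

variable {p : ℕ} [Fact p.Prime] [CharP F p]

theorem nilpotent_of_pow {g : Cfsg.SU 3 F q} {k : ℕ} (hk : g ^ p ^ k = 1) :
    (mat F q g - 1) ^ p ^ k = 0 := by
  rw [sub_pow_char_pow_of_commute p k (Commute.one_right _), one_pow, ← mat_pow, hk, mat_one, sub_self]

/-- A `p`-element fixing a line fixes it pointwise. -/
theorem fix_of_line {g : Cfsg.SU 3 F q} {k : ℕ} (hk : g ^ p ^ k = 1) {v : V} {c : F} (hv : v ≠ 0)
    (hc : mat F q g *ᵥ v = c • v) : mat F q g *ᵥ v = v := by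
  have hn : ∀ n : ℕ, mat F q g ^ n *ᵥ v = c ^ n • v := by
    intro n
    induction n with
    | zero => simp
    | succ n ih =>
      rw [pow_succ, ← Matrix.mulVec_mulVec, hc, Matrix.mulVec_smul, ih, smul_smul, pow_succ']
  have := hn (p ^ k)
  rw [← mat_pow, hk, mat_one, Matrix.one_mulVec] at this
  have hck : c ^ p ^ k = 1 := by
    have h0 : (1 - c ^ p ^ k) • v = 0 := by rw [sub_smul, one_smul, ← this, sub_self]
    exact (sub_eq_zero.1 ((smul_eq_zero.1 h0).resolve_right hv)).symm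
  have hc1 : c = 1 := iterateFrobenius_inj F p k (by simp [iterateFrobenius_def, hck])
  rw [hc, hc1, one_smul]

/-- The isotropic point fixed by a non-trivial `p`-element. -/
theorem exists_point (hF : Fintype.card F = q ^ 2) {g : Cfsg.SU 3 F q} {k : ℕ} (hk : g ^ p ^ k = 1)
    (hg : g ≠ 1) : ∃ v : V, v ≠ 0 ∧ h v v = 0 ∧ mat F q g *ᵥ v = v ∧
      ∀ w : V, h w w = 0 → mat F q g *ᵥ w = w → ∃ c : F, w = c • v := by
  classical
  set N := mat F q g - 1 with hN
  have hne : N ≠ 0 := fun e => hg (mat_eq_one.1 (sub_eq_zero.1 e))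
  have hex : ∃ n, N ^ n = 0 := ⟨_, nilpotent_of_pow hk⟩
  set n := Nat.find hex with hn
  have hn0 : N ^ n = 0 := Nat.find_spec hex
  have hn2 : 2 ≤ n := by
    rcases Nat.lt_or_ge n 2 with h2 | h2
    · interval_cases hh : n
      · exact absurd hn0 (by simp)
      · exact absurd (by simpa using hn0) hne
    · exact h2
  have hmin : N ^ (n - 1) ≠ 0 := Nat.find_min hex (show n - 1 < Nat.find hex by omega)
  obtain ⟨x, hx⟩ : ∃ x : V, N ^ (n - 1) *ᵥ x ≠ 0 := by
    by_contra hh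
    push Not at hh
    exact hmin (Matrix.ext_iff_mulVec.2 fun x => by rw [hh x, Matrix.zero_mulVec])
  set v := N ^ (n - 1) *ᵥ x with hv
  have himg : v = N *ᵥ (N ^ (n - 2) *ᵥ x) := by
    rw [hv, Matrix.mulVec_mulVec, ← pow_succ', show n - 2 + 1 = n - 1 by omega]
  have hfix : mat F q g *ᵥ v = v := by
    have h0 : N *ᵥ v = 0 := by
      rw [hv, Matrix.mulVec_mulVec, ← pow_succ', show n - 1 + 1 = n by omega, hn0, Matrix.zero_mulVec]
    rwa [hN, Matrix.sub_mulVec, Matrix.one_mulVec, sub_eq_zero] at h0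
  have horth : ∀ w : V, mat F q g *ᵥ w = w → h w v = 0 := by
    intro w hw
    rw [himg, hN, Matrix.sub_mulVec, Matrix.one_mulVec, H3.hermForm_sub_right hF]
    nth_rw 1 [← hw]
    rw [preserves, sub_self]
  refine ⟨v, hx, horth v hfix, hfix, fun w hw hwf => ?_⟩
  exact proportional hF hx (horth v hfix) hw (horth w hwf)

/-- A `p`-element fixing an isotropic vector is unipotent on its orthogonal modulo the point. -/
theorem unipotent_perp (hF : Fintype.card F = q ^ 2) {g : Cfsg.SU 3 F q} {k : ℕ} (hk : g ^ p ^ k = 1)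
    {v : V} (hv0 : v ≠ 0) (hv : h v v = 0) (hfix : mat F q g *ᵥ v = v) :
    ∀ x : V, h x v = 0 → ∃ c : F, mat F q g *ᵥ x - x = c • v := by
  classical
  intro x hx
  set N := mat F q g - 1 with hN
  have hNv : ∀ y : V, N *ᵥ y = mat F q g *ᵥ y - y := by
    intro y; rw [hN, Matrix.sub_mulVec, Matrix.one_mulVec]
  have hperp : ∀ n : ℕ, h (N ^ n *ᵥ x) v = 0 := by
    intro n
    induction n with
    | zero => simpa using hx
    | succ n ih =>
      rw [pow_succ', ← Matrix.mulVec_mulVec, hNv, H3.hermForm_sub_left hF]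
      nth_rw 1 [← hfix]
      rw [preserves, sub_self]
  have hstep : ∀ n : ℕ, (∃ c : F, N *ᵥ (N ^ (n + 1) *ᵥ x) = c • v) →
      ∃ c : F, N ^ (n + 1) *ᵥ x = c • v := by
    rintro n ⟨c, hc⟩
    set z := N ^ n *ᵥ x with hz
    set y := N ^ (n + 1) *ᵥ x with hy
    have hyz : y = mat F q g *ᵥ z - z := by
      rw [hy, pow_succ', ← Matrix.mulVec_mulVec, hNv]
    have hgy : mat F q g *ᵥ y = y + c • v := by
      rw [← hc, hNv]; abel
    have hvz : h v (mat F q g *ᵥ z) = 0 := by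
      rw [← hfix, preserves]
      exact (H3.hermForm_eq_zero_comm hF).1 (hperp n)
    have e : h y (mat F q g *ᵥ z) = h y z := by
      have := preserves g y z
      rw [hgy, H3.hermForm_add_left hF, H3.hermForm_smul_left hF, hvz, mul_zero, add_zero] at this
      exact this
    refine proportional hF hv0 hv ?_ (hperp (n + 1))
    show h y y = 0
    nth_rw 2 [hyz]
    rw [H3.hermForm_sub_right hF, e, sub_self]
  have hdown : ∀ m : ℕ, (∃ c : F, N ^ (m + 1) *ᵥ x = c • v) → ∃ c : F, N ^ 1 *ᵥ x = c • v := by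
    intro m
    induction m with
    | zero => exact id
    | succ m ih =>
      intro hm
      obtain ⟨c, hc⟩ := hm
      exact ih (hstep m ⟨c, by rw [Matrix.mulVec_mulVec, ← pow_succ', hc]⟩)
  obtain ⟨c, hc⟩ := hdown (p ^ k) ⟨0, by rw [pow_succ, nilpotent_of_pow hk, zero_mul, Matrix.zero_mulVec, zero_smul]⟩
  exact ⟨c, by rw [← hNv, ← hc, pow_one]⟩

/-- `SU₃` is locally closed in its defining characteristic. -/
theorem locallyClosed (hF : Fintype.card F = q ^ 2) : LocallyClosed p (Cfsg.SU 3 F q) := by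
  intro R hR hne a ha b hb ⟨i, hi⟩ ⟨j, hj⟩
  have : Nontrivial R := (Subgroup.nontrivial_iff_ne_bot R).2 hne
  have : Nontrivial (Subgroup.center R) := hR.center_nontrivial
  obtain ⟨⟨⟨u, huR⟩, huc⟩, hu⟩ := exists_ne (1 : Subgroup.center R)
  have hu1 : u ≠ 1 := fun e => hu (Subtype.ext (Subtype.ext e))
  have hpel : ∀ r ∈ R, ∃ k : ℕ, r ^ p ^ k = 1 := fun r hr => by
    obtain ⟨k, hk⟩ := hR ⟨r, hr⟩
    exact ⟨k, congrArg Subtype.val hk⟩
  obtain ⟨k, hk⟩ := hpel u huR
  obtain ⟨v, hv0, hv, hvf, huniq⟩ := exists_point hF hk hu1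
  have hRfix : ∀ r ∈ R, mat F q r *ᵥ v = v := by
    intro r hr
    obtain ⟨l, hl⟩ := hpel r hr
    have hcomm : u * r = r * u :=
      congrArg Subtype.val (Subgroup.mem_center_iff.1 huc ⟨r, hr⟩).symm
    have e : mat F q u *ᵥ (mat F q r *ᵥ v) = mat F q r *ᵥ v := by
      rw [Matrix.mulVec_mulVec, ← mat_mul, hcomm, mat_mul, ← Matrix.mulVec_mulVec, hvf]
    obtain ⟨c, hc⟩ := huniq _ (by rw [preserves, hv]) e
    exact fix_of_line hl hv0 hc
  have hline : ∀ g ∈ Subgroup.normalizer (R : Set (Cfsg.SU 3 F q)), ∃ c : F, mat F q g *ᵥ v = c • v := by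
    intro g hg
    have hmem : g⁻¹ * u * g ∈ R := by
      rw [Subgroup.mem_normalizer_iff] at hg
      rw [hg]
      simpa [mul_assoc] using huR
    refine huniq _ (by rw [preserves, hv]) ?_
    rw [Matrix.mulVec_mulVec, ← mat_mul, show u * g = g * (g⁻¹ * u * g) by group, mat_mul,
      ← Matrix.mulVec_mulVec, hRfix _ hmem]
  obtain ⟨ca, hca⟩ := hline a ha
  obtain ⟨cb, hcb⟩ := hline b hb
  have hav := fix_of_line hi hv0 hca
  have hbv := fix_of_line hj hv0 hcb
  have habv : mat F q (a * b) *ᵥ v = v := by rw [mat_mul, ← Matrix.mulVec_mulVec, hbv, hav]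
  refine ⟨2, mat_eq_one.1 ?_⟩
  have hN3 : (mat F q (a * b) - 1) ^ 3 = 0 := by
    refine Matrix.ext_iff_mulVec.2 fun x => ?_
    set y := mat F q (a * b) *ᵥ x - x with hy
    have hyv : h y v = 0 := by
      rw [hy, H3.hermForm_sub_left hF]
      nth_rw 1 [← habv]
      rw [preserves, sub_self]
    obtain ⟨c, hc⟩ := unipotent_perp hF hj hv0 hv hbv y hyv
    obtain ⟨d, hd⟩ := unipotent_perp hF hi hv0 hv hav y hyv
    have hy2 : mat F q (a * b) *ᵥ y - y = (c + d) • v := by
      rw [mat_mul, ← Matrix.mulVec_mulVec, sub_eq_iff_eq_add.1 hc, Matrix.mulVec_add,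
        Matrix.mulVec_smul, hav, sub_eq_iff_eq_add.1 hd, add_smul]
      abel
    rw [Matrix.zero_mulVec, pow_succ', pow_two, ← Matrix.mulVec_mulVec, ← Matrix.mulVec_mulVec]
    simp only [Matrix.sub_mulVec, Matrix.one_mulVec]
    rw [← hy, hy2, Matrix.mulVec_smul, habv, sub_self]
  have h4 : (mat F q (a * b) - 1) ^ p ^ 2 = 0 :=
    pow_eq_zero_of_le (by nlinarith [(Fact.out : p.Prime).two_le]) hN3
  rw [sub_pow_char_pow_of_commute p 2 (Commute.one_right _), one_pow, sub_eq_zero] at h4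
  rw [mat_pow, h4]

end Cfsg.Agent.H58.PSUThreeLocal
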