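import Cfsg.Agent.H58.PSLThree.Setup
import Cfsg.Agent.H3.Isotropic

/-!
`PSU₃(q)`, `q` odd: the embedded `GU₂(q)`, involutions, centralizer of an involution, orders.
-/
set_option autoImplicit false

namespace Cfsg.Agent.H58.PSUThree

open Matrix MatrixGroups Cfsg

variable {F : Type*} [Field F] [Fintype F] {q : ℕ}

lemma emb_preserves (hF : Fintype.card F = q ^ 2) (A : GU 2 F q) :
    PSLThree.emb A.1 ∈ SU 3 F q := by
  rw [H3.mem_SU_iff]
  intro u v
  have h := H3.GU_preserves A ![u 0, u 1] ![v 0, v 1]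
  have hd : ((A.1 : Matrix (Fin 2) (Fin 2) F).det⁻¹) ^ (q + 1) = 1 := by
    rw [inv_pow, H3.det_GU hF A, inv_one]
  set d := (A.1 : Matrix (Fin 2) (Fin 2) F).det⁻¹
  simp only [hermForm, Fin.sum_univ_two, Fin.sum_univ_three, Matrix.mulVec, dotProduct] at h ⊢
  simp [PSLThree.coe_emb, PSLThree.blkMat] at h ⊢
  rw [mul_pow]
  linear_combination h + (u 2 * v 2 ^ q) * hd

/-- `A ↦ A ⊕ (det A)⁻¹` into `SU₃`. -/
def embU (hF : Fintype.card F = q ^ 2) : GU 2 F q →* SU 3 F q :=
  (PSLThree.emb.comp (GU 2 F q).subtype).codRestrict _ (emb_preserves hF)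

lemma coe_embU (hF : Fintype.card F = q ^ 2) (A : GU 2 F q) :
    ((embU hF A).1 : Matrix (Fin 3) (Fin 3) F) =
      PSLThree.blkMat (A.1 : Matrix (Fin 2) (Fin 2) F) (A.1 : Matrix (Fin 2) (Fin 2) F).det⁻¹ := rfl

/-- The quotient map to `PSU₃`. -/
abbrev proj : SU 3 F q →* PSU 3 F q := QuotientGroup.mk' _

/-- `GU₂(q)` inside `PSU₃(q)`. -/
def eU (hF : Fintype.card F = q ^ 2) : GU 2 F q →* PSU 3 F q := proj.comp (embU hF)

lemma proj_eq_one (hF : Fintype.card F = q ^ 2) {M : SU 3 F q} (h : proj M = 1) :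
    ∃ r : F, r ^ 3 = 1 ∧ (M.1 : Matrix (Fin 3) (Fin 3) F) = r • 1 := by
  obtain ⟨l, hl⟩ := (H3.mem_center_SU_iff hF (by norm_num) M).1 ((QuotientGroup.eq_one_iff M).1 h)
  have hM := H3.eq_diagonal_of_scalar _ hl
  refine ⟨l, ?_, by rw [hM, smul_one_eq_diagonal]⟩
  have := M.1.det_coe
  rw [hM] at this
  simpa using this

lemma eU_eq_one (hF : Fintype.card F = q ^ 2) {A : GU 2 F q} (h : eU hF A = 1) :
    A ^ 3 = 1 ∧ ∀ B : GU 2 F q, A * B = B * A := by
  obtain ⟨r, hr, hM⟩ := proj_eq_one hF (show proj (embU hF A) = 1 from h)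
  obtain ⟨h3, hc⟩ := PSLThree.e_eq_one (A := A.1)
    (show PSLThree.proj (PSLThree.emb A.1) = 1 from PSLThree.proj_eq_one.2 ⟨r, hr, hM⟩)
  exact ⟨Subtype.ext (by rw [Subgroup.coe_pow, h3, Subgroup.coe_one]), fun B => Subtype.ext (hc B.1)⟩

lemma neg_one_mem_GU (hF : Fintype.card F = q ^ 2) (hodd : q % 2 = 1) :
    (-1 : GL (Fin 2) F) ∈ GU 2 F q := by
  rw [H3.mem_GU_iff]
  intro u v
  simp only [hermForm, Units.val_neg, Units.val_one, neg_mulVec, one_mulVec, Pi.neg_apply,
    (Nat.odd_iff.2 hodd).neg_pow, neg_mul_neg]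

/-- The central involution of `GU₂`. -/
def negOne (hF : Fintype.card F = q ^ 2) (hodd : q % 2 = 1) : GU 2 F q :=
  ⟨-1, neg_one_mem_GU hF hodd⟩

lemma coe_embU_negOne (hF : Fintype.card F = q ^ 2) (hodd : q % 2 = 1) :
    ((embU hF (negOne hF hodd)).1 : Matrix (Fin 3) (Fin 3) F) = diagonal ![-1, -1, 1] :=
  PSLThree.coe_emb_neg_one

/-- All involutions of `PSU₃(q)` are conjugate. -/
lemma exists_conj_involution (hF : Fintype.card F = q ^ 2) (hodd : q % 2 = 1) (h2 : (2 : F) ≠ 0)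
    {x : PSU 3 F q} (hx : orderOf x = 2) :
    ∃ g, g * eU hF (negOne hF hodd) * g⁻¹ = x := by
  obtain ⟨M, rfl⟩ := QuotientGroup.mk'_surjective (Subgroup.center (SU 3 F q)) x
  change orderOf (proj M) = 2 at hx
  have hMM : proj (M ^ 2) = 1 := by rw [map_pow, ← hx, pow_orderOf_eq_one]
  obtain ⟨r, hr, hM⟩ := proj_eq_one hF hMM
  set N := M ^ 3 with hNdef
  have hNx : proj N = proj M := by
    rw [hNdef, show M ^ 3 = M ^ 2 * M from pow_succ M 2, map_mul, hMM, one_mul]
  have hNN : (N.1 : Matrix (Fin 3) (Fin 3) F) * (N.1 : Matrix (Fin 3) (Fin 3) F) = 1 := by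
    have : N * N = (M ^ 2) ^ 3 := by rw [hNdef, ← pow_add, ← pow_mul]
    rw [← Matrix.SpecialLinearGroup.coe_mul, ← Subgroup.coe_mul, this, Subgroup.coe_pow,
      Matrix.SpecialLinearGroup.coe_pow, hM, _root_.smul_pow, hr, one_pow, one_smul]
  have hN1 : (N.1 : Matrix (Fin 3) (Fin 3) F) ≠ 1 := fun h => by
    have h1 : N = 1 := Subtype.ext (Subtype.ext h)
    rw [h1, map_one] at hNx
    rw [← hNx, orderOf_one] at hx
    exact absurd hx (by norm_num)
  obtain ⟨P, hP, hNP⟩ := PSLThree.exists_conj_diag h2 hNN N.1.det_coe hN1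
  set w : Fin 3 → F := P *ᵥ Pi.single 2 1 with hw
  have hcol : ∀ j : Fin 3, (N.1 : Matrix (Fin 3) (Fin 3) F) *ᵥ (P *ᵥ Pi.single j 1) =
      (![-1, -1, 1] : Fin 3 → F) j • (P *ᵥ Pi.single j 1) := by
    intro j
    rw [mulVec_mulVec, hNP, ← mulVec_mulVec, diagonal_mulVec_single, mul_one, ← mulVec_smul]
    congr 1
    ext i
    simp [Pi.single_apply]
  have hNw : (N.1 : Matrix (Fin 3) (Fin 3) F) *ᵥ w = w := by
    have := hcol 2
    simpa [hw] using this
  have hPinj : ∀ y : Fin 3 → F, P *ᵥ y = 0 → y = 0 := fun y h =>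
    Matrix.eq_zero_of_mulVec_eq_zero (by rw [hP]; exact one_ne_zero) h
  have hw0 : w ≠ 0 := fun h => by
    have := congrFun (hPinj _ h) 2
    simp at this
  have hNG := (H3.suToGU 3 F q N).2
  have hpres : ∀ u v, hermForm 3 F q ((N.1 : Matrix (Fin 3) (Fin 3) F) *ᵥ u)
      ((N.1 : Matrix (Fin 3) (Fin 3) F) *ᵥ v) = hermForm 3 F q u v := H3.mem_SU_iff.1 N.2
  have hperp : ∀ j : Fin 3, j ≠ 2 → hermForm 3 F q (P *ᵥ Pi.single j 1) w = 0 := by
    intro j hj
    have h := hpres (P *ᵥ Pi.single j 1) w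
    rw [hNw, hcol j, (H3.hermForm_smul_left hF)] at h
    have hm : (![-1, -1, 1] : Fin 3 → F) j = -1 := by fin_cases j <;> simp_all
    rw [hm] at h
    have : (2 : F) * hermForm 3 F q (P *ᵥ Pi.single j 1) w = 0 := by linear_combination -h
    exact (mul_eq_zero.1 this).resolve_left h2
  have hww : hermForm 3 F q w w ≠ 0 := by
    intro h0
    obtain ⟨z, hz⟩ := H3.exists_hermForm_eq_one hF hw0
    have hall : ∀ y : Fin 3 → F, hermForm 3 F q (P *ᵥ y) w = 0 := by
      intro y
      have hy : P *ᵥ y = ∑ j, y j • (P *ᵥ Pi.single j 1) := by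
        ext i
        simp [Matrix.mulVec, dotProduct, Finset.sum_apply, mul_comm]
      rw [hy, Fin.sum_univ_three, (H3.hermForm_add_left hF), (H3.hermForm_add_left hF), (H3.hermForm_smul_left hF),
        (H3.hermForm_smul_left hF), (H3.hermForm_smul_left hF), hperp 0 (by decide), hperp 1 (by decide),
        show P *ᵥ Pi.single 2 1 = w from rfl, h0]
      ring
    have hsurj : ∀ z : Fin 3 → F, ∃ y, P *ᵥ y = z := fun z =>
      ⟨P⁻¹ *ᵥ z, by rw [mulVec_mulVec, mul_nonsing_inv _ (by rw [hP]; exact isUnit_one), one_mulVec]⟩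
    obtain ⟨y, rfl⟩ := hsurj z
    have hh := hall y
    rw [hh] at hz
    exact zero_ne_one hz
  obtain ⟨c, hc⟩ := H3.exists_norm_eq hF (μ := (hermForm 3 F q w w)⁻¹)
    (by rw [inv_pow, H3.hermForm_pow_q hF])
  have hu : hermForm 3 F q (c • w) (c • w) = 1 := by
    rw [(H3.hermForm_smul_left hF), (H3.hermForm_smul_right hF), ← mul_assoc, ← pow_succ', hc, inv_mul_cancel₀ hww]
  have hu0 : c • w ≠ 0 := fun h => by
    rw [h, (H3.hermForm_zero_left hF)] at hu
    exact zero_ne_one hu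
  have he : hermForm 3 F q (Pi.single (2 : Fin 3) 1) (Pi.single (2 : Fin 3) 1) = 1 := by
    rw [H3.hermForm_single_left]; simp
  obtain ⟨g, hg⟩ := H3.exists_GU_mulVec_eq hF (v := Pi.single (2 : Fin 3) 1) (w := c • w)
    (fun h => by simpa using congrFun h 2) hu0 (he.trans hu.symm)
  let δ := (g.1 : Matrix (Fin 3) (Fin 3) F).det
  have hδ : δ ^ (q + 1) = 1 := H3.det_GU hF g
  have hδ0 : δ ≠ 0 := fun h => by rw [h, zero_pow (Nat.succ_ne_zero q)] at hδ; exact zero_ne_one hδ
  let d := H3.guDiag (q := q) ![δ⁻¹, 1, 1] (fun i => by fin_cases i <;> simp [inv_pow, hδ])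
  have hdet : ((g * d).1 : Matrix (Fin 3) (Fin 3) F).det = 1 := by
    rw [Subgroup.coe_mul, Units.val_mul, det_mul]
    show δ * (diagonal ![δ⁻¹, 1, 1]).det = 1
    rw [det_diagonal, Fin.prod_univ_three]
    simp [hδ0]
  let Q : SU 3 F q := ⟨⟨((g * d).1 : Matrix (Fin 3) (Fin 3) F), hdet⟩, H3.mem_SU_iff.2 (g * d).2⟩
  have hQ : (Q.1 : Matrix (Fin 3) (Fin 3) F) *ᵥ Pi.single 2 1 = c • w := by
    show ((g * d).1 : Matrix (Fin 3) (Fin 3) F) *ᵥ Pi.single 2 1 = c • w
    rw [Subgroup.coe_mul, Units.val_mul, ← mulVec_mulVec]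
    show _ *ᵥ (diagonal ![δ⁻¹, 1, 1] *ᵥ _) = _
    rw [diagonal_mulVec_single]
    simpa using hg
  set K := Q⁻¹ * N * Q with hKdef
  have hfix : (K.1 : Matrix (Fin 3) (Fin 3) F) *ᵥ Pi.single 2 1 = Pi.single 2 1 := by
    rw [hKdef, Subgroup.coe_mul, Subgroup.coe_mul, Matrix.SpecialLinearGroup.coe_mul,
      Matrix.SpecialLinearGroup.coe_mul, ← mulVec_mulVec, hQ, ← mulVec_mulVec, mulVec_smul, hNw, ← hQ,
      mulVec_mulVec, ← Matrix.SpecialLinearGroup.coe_mul, ← Subgroup.coe_mul, inv_mul_cancel,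
      Subgroup.coe_one, Matrix.SpecialLinearGroup.coe_one, one_mulVec]
  have hKpres : ∀ u v, hermForm 3 F q ((K.1 : Matrix (Fin 3) (Fin 3) F) *ᵥ u)
      ((K.1 : Matrix (Fin 3) (Fin 3) F) *ᵥ v) = hermForm 3 F q u v := H3.mem_SU_iff.1 K.2
  set m := (K.1 : Matrix (Fin 3) (Fin 3) F) with hm
  have hcol2 : ∀ i, m i 2 = (Pi.single 2 1 : Fin 3 → F) i := fun i => by
    rw [← congrFun hfix i]; simp [hm]
  have hrow : ∀ j : Fin 3, j ≠ 2 → m 2 j = 0 := by
    intro j hj
    have h := hKpres (Pi.single j 1) (Pi.single 2 1)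
    rw [hfix] at h
    have hq0 : q ≠ 0 := by omega
    simp [hermForm, Fin.sum_univ_three, Pi.single_apply, hj, Ne.symm hj, hq0] at h
    exact h
  set A : Matrix (Fin 2) (Fin 2) F := !![m 0 0, m 0 1; m 1 0, m 1 1] with hA
  have hblk : m = PSLThree.blkMat A 1 := by
    ext i j
    fin_cases i <;> fin_cases j <;>
      simp [PSLThree.blkMat, hA, hcol2, hrow 0 (by decide), hrow 1 (by decide)]
  have hAd : A.det = 1 := by
    have := K.1.det_coe
    rw [← hm, hblk, PSLThree.det_blkMat, mul_one] at this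
    exact this
  have hKK : K * K = 1 := by
    have hNN' : N * N = 1 := Subtype.ext (Subtype.ext (by simpa using hNN))
    rw [hKdef]
    calc Q⁻¹ * N * Q * (Q⁻¹ * N * Q) = Q⁻¹ * (N * N) * Q := by group
      _ = 1 := by rw [hNN', mul_one, inv_mul_cancel]
  have hAA : A * A = 1 := by
    have h := congrArg (fun k : SU 3 F q => (k.1 : Matrix (Fin 3) (Fin 3) F)) hKK
    simp only [Subgroup.coe_mul, Matrix.SpecialLinearGroup.coe_mul, ← hm, Subgroup.coe_one,
      Matrix.SpecialLinearGroup.coe_one, hblk, PSLThree.blkMat_mul, one_mul] at h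
    ext i j
    have h' := fun i j => congrFun (congrFun h i) j
    have h00 := h' 0 0
    have h01 := h' 0 1
    have h10 := h' 1 0
    have h11 := h' 1 1
    simp [PSLThree.blkMat] at h00 h01 h10 h11
    fin_cases i <;> fin_cases j <;> simp [h00, h01, h10, h11]
  have hKneg : m = diagonal ![-1, -1, 1] := by
    have e := fun i j => congrFun (congrFun hAA i) j
    have e00 := e 0 0
    have e01 := e 0 1
    have e10 := e 1 0
    have e11 := e 1 1
    rw [det_fin_two] at hAd
    simp [Matrix.mul_apply, Fin.sum_univ_two] at e00 e01 e10 e11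
    set a := A 0 0
    set b := A 0 1
    set c := A 1 0
    set d := A 1 1
    have htr : (a + d) * a = 2 := by linear_combination e00 + hAd
    have hsum : a + d ≠ 0 := fun h => h2 (by rw [h, zero_mul] at htr; exact htr.symm)
    have hb : b = 0 := (mul_eq_zero.1 (show (a + d) * b = 0 by linear_combination e01)).resolve_left hsum
    have hc : c = 0 := (mul_eq_zero.1 (show (a + d) * c = 0 by linear_combination e10)).resolve_left hsum
    have had : a = d := mul_left_cancel₀ hsum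
      (show (a + d) * a = (a + d) * d by linear_combination e00 - e11)
    rcases mul_self_eq_one_iff.1 (show a * a = 1 by linear_combination e00 - c * hb) with ha | ha
    · exfalso
      apply hN1
      have hK1 : K = 1 := Subtype.ext (Subtype.ext (by
        show m = 1
        rw [hblk]
        have : A = 1 := by
          ext i j
          fin_cases i <;> fin_cases j <;> simp
          · exact ha
          · exact hb
          · exact hc
          · linear_combination ha - had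
        rw [this]
        ext i j
        fin_cases i <;> fin_cases j <;> simp [PSLThree.blkMat]))
      have hN' : N = 1 := by
        have := congrArg (fun k => Q * k * Q⁻¹) hK1
        simpa [hKdef, mul_assoc] using this
      rw [hN']; rfl
    · rw [hblk]
      ext i j
      fin_cases i <;> fin_cases j <;> simp [PSLThree.blkMat]
      · exact ha
      · exact hb
      · exact hc
      · linear_combination ha - had
  refine ⟨proj Q, ?_⟩
  have hKe : K = embU hF (negOne hF hodd) :=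
    Subtype.ext (Subtype.ext (hKneg.trans (coe_embU_negOne hF hodd).symm))
  show proj Q * proj (embU hF (negOne hF hodd)) * (proj Q)⁻¹ = proj M
  rw [← hKe, ← hNx, ← map_inv, ← map_mul, ← map_mul, hKdef]
  congr 1
  group

/-- The centralizer of the involution is in the image of `GU₂`. -/
lemma mem_range_of_commute (hF : Fintype.card F = q ^ 2) (hodd : q % 2 = 1) (h2 : (2 : F) ≠ 0)
    {g : PSU 3 F q} (hg : g * eU hF (negOne hF hodd) = eU hF (negOne hF hodd) * g) :
    ∃ A, eU hF A = g := by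
  obtain ⟨M, rfl⟩ := QuotientGroup.mk'_surjective (Subgroup.center (SU 3 F q)) g
  have h : proj ((embU hF (negOne hF hodd)) * M * (M * embU hF (negOne hF hodd))⁻¹) = 1 := by
    rw [map_mul, map_mul, map_inv, map_mul]
    change eU hF (negOne hF hodd) * proj M * (proj M * eU hF (negOne hF hodd))⁻¹ = 1
    rw [hg, mul_inv_cancel]
  obtain ⟨r, hr, hM⟩ := proj_eq_one hF h
  set m := (M.1 : Matrix (Fin 3) (Fin 3) F) with hm
  have hM' : diagonal ![-1, -1, 1] * m = r • (m * diagonal ![-1, -1, 1]) := by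
    have := congrArg (· * ((M * embU hF (negOne hF hodd)).1 : Matrix (Fin 3) (Fin 3) F)) hM
    simp only [smul_mul, one_mul] at this
    rw [← Matrix.SpecialLinearGroup.coe_mul, ← Subgroup.coe_mul, inv_mul_cancel_right, Subgroup.coe_mul,
      Subgroup.coe_mul, Matrix.SpecialLinearGroup.coe_mul, Matrix.SpecialLinearGroup.coe_mul,
      coe_embU_negOne] at this
    exact this
  have hent := fun i j => congrFun (congrFun hM' i) j
  simp only [mul_diagonal, diagonal_mul, Matrix.smul_apply, smul_eq_mul] at hent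
  have hr1 : r = 1 := by
    obtain ⟨j, hj⟩ : ∃ j, m 0 j ≠ 0 := by
      by_contra hh
      push Not at hh
      have := M.1.det_coe
      rw [← hm, Matrix.det_eq_zero_of_row_eq_zero 0 hh] at this
      exact zero_ne_one this
    have hh := hent 0 j
    have h1 : (![-1, -1, 1] : Fin 3 → F) 0 = r * (![-1, -1, 1] : Fin 3 → F) j :=
      mul_right_cancel₀ hj (by rw [hh]; ring)
    have hr2 : r ^ 2 = 1 := by
      have h0 : ((![-1, -1, 1] : Fin 3 → F) 0) ^ 2 = 1 := by simp
      have hsq : ((![-1, -1, 1] : Fin 3 → F) j) ^ 2 = 1 := by fin_cases j <;> simp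
      rw [h1, mul_pow, hsq, mul_one] at h0
      exact h0
    calc r = r ^ 3 := by rw [pow_succ, hr2, one_mul]
      _ = 1 := hr
  subst hr1
  have h02 := hent 0 2
  have h12 := hent 1 2
  have h20 := hent 2 0
  have h21 := hent 2 1
  simp only [Matrix.cons_val, one_mul, mul_one, neg_mul, mul_neg] at h02 h12 h20 h21
  have z : ∀ a : F, -a = a → a = 0 := fun a ha => by
    have : (2 : F) * a = 0 := by linear_combination -ha
    exact (mul_eq_zero.1 this).resolve_left h2
  set A : Matrix (Fin 2) (Fin 2) F := !![m 0 0, m 0 1; m 1 0, m 1 1] with hA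
  have hblk : m = PSLThree.blkMat A (m 2 2) := by
    ext i j
    fin_cases i <;> fin_cases j <;>
      simp [PSLThree.blkMat, hA, z _ h02, z _ h12, z _ h20.symm, z _ h21.symm]
  have hd : A.det * m 2 2 = 1 := by
    rw [← PSLThree.det_blkMat, ← hblk, hm, M.1.det_coe]
  let A' := GeneralLinearGroup.mkOfDetNeZero A (left_ne_zero_of_mul_eq_one hd)
  have hA'mem : A' ∈ GU 2 F q := by
    rw [H3.mem_GU_iff]
    intro u v
    have h := H3.mem_SU_iff.1 M.2 ![u 0, u 1, 0] ![v 0, v 1, 0]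
    rw [← hm, hblk] at h
    have hq0 : q ≠ 0 := by omega
    show hermForm 2 F q (A *ᵥ u) (A *ᵥ v) = _
    simp [hermForm, Fin.sum_univ_two, Fin.sum_univ_three, Matrix.mulVec, dotProduct, PSLThree.blkMat,
      hA, hq0] at h ⊢
    linear_combination h
  refine ⟨⟨A', hA'mem⟩, ?_⟩
  show proj (embU hF ⟨A', hA'mem⟩) = proj M
  congr 1
  refine Subtype.ext (Subtype.ext ?_)
  rw [coe_embU]
  show PSLThree.blkMat A A.det⁻¹ = m
  rw [inv_eq_of_mul_eq_one_right hd, ← hblk]

/-- `gcd · (q+1) · |PSU₃| = q² (q³+1) |GU₂|`. -/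
lemma card_psu3_eq (hF : Fintype.card F = q ^ 2) :
    Nat.gcd 3 (q + 1) * ((q + 1) * Nat.card (PSU 3 F q)) =
      (q + 1) * (q ^ 2 * (q ^ 2 - q + 1)) * Nat.card (GU 2 F q) := by
  rw [H3.card_PSU hF (by norm_num), H3.card_GU hF, H3.card_GU hF]
  simp [Finset.prod_range_succ, Nat.even_add_one]
  have a1 : q ≤ q ^ 2 := Nat.le_self_pow (by norm_num) q
  have a2 : 1 ≤ q ^ 2 := Nat.one_le_pow _ _ (by have := H3.two_le_q hF; omega)
  zify [a1, a2]
  ring

end Cfsg.Agent.H58.PSUThree
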